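import Cfsg.Agent.H424.DegTools
import Cfsg.Agent.H672.Over
import Cfsg.Agent.Blocks.Deflate
import Cfsg.Agent.Characters.Linear
import Cfsg.Agent.S0851
import Cfsg.Agent.H704.S8.Defs3

/-!
# S4908: degrees of `X` and `Aut X` when `|Out X| ≤ 2` (helper242)

* `down` : a degree `≠ 1` of `G` over a perfect normal subgroup `N` with abelian quotient lies over a degree `≠ 1` of `N`;
* `twin` : `n ∈ cd(X)` gives `n ∈ cd(Aut X)` or `2 n ∈ cd(Aut X)`; `e ∈ cd(Aut X)` gives `e ∈ cd(X)` or `e = 2 n` with
  `1 ≠ n ∈ cd(X)`;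
* `deg_two` : both for all `D` with `Deg c X D`.
-/

set_option autoImplicit false

namespace Cfsg.Agent.H242.S8

open Cfsg
open Cfsg.Agent.H424.DegTools
open scoped commutatorElement

universe u v

/-- a degree `≠ 1` of `G` lies over a degree `≠ 1` of a perfect normal subgroup with abelian quotient -/
theorem down {G : Type u} [Group G] [Finite G] (N : Subgroup G) [N.Normal] (hN : commutator N = ⊤)
    (hab : ∀ a b : G ⧸ N, a * b = b * a) {d : ℕ} (hd : d ∈ charDegrees G) (h1 : d ≠ 1) :
    ∃ c ∈ charDegrees N, c ≠ 1 ∧ c ∣ d ∧ d / c ∣ N.index := by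
  classical
  obtain ⟨χ, rfl⟩ := hd
  obtain ⟨θ, hθ, h⟩ := Cfsg.Agent.H672.exists_under (f := N.subtype) χ.2
  obtain ⟨h2, h3⟩ := Cfsg.Agent.H672.charDegree_dvd_of_over N χ.2 hθ h
  refine ⟨charDegree θ, ⟨⟨θ, hθ⟩, rfl⟩, ?_, h2, h3⟩
  intro hone
  apply h1
  let _ := Fintype.ofFinite N
  have hθ1 : θ 1 = 1 := by
    rw [Cfsg.Agent.Blocks.Basic.irr_one_eq_charDegree hθ, hone, Nat.cast_one]
  obtain ⟨f, rfl⟩ := Cfsg.Agent.Characters.Linear.exists_hom_of_isIrrCharacter hθ hθ1
  have hf : ∀ n : N, f n = 1 := by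
    intro n
    have h4 : commutator N ≤ f.ker := Abelianization.commutator_subset_ker f
    exact h4 (by rw [hN]; trivial)
  rw [Cfsg.Agent.H672.over_iff] at h
  have hsum : ∑ n : N, (χ : G → ℂ) n ≠ 0 := by
    intro h0
    apply h
    have h6 : ∀ n : N, ((χ : G → ℂ) ∘ N.subtype) n * (starRingEnd ℂ) ((f n : ℂˣ) : ℂ) = (χ : G → ℂ) n := by
      intro n
      rw [hf, Units.val_one, map_one, mul_one]
      rfl
    unfold classInner
    simp only [h6]
    rw [h0, mul_zero]
  obtain ⟨χ', hχ'⟩ := Cfsg.Agent.Blocks.Deflate.exists_deflation N (χ : G → ℂ) χ.2 hsum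
  have h5 : (χ : G → ℂ) 1 = 1 := by
    rw [hχ']
    exact Cfsg.Agent.S0851.irr_apply_one_of_comm hab χ'.2
  exact Cfsg.Agent.Blocks.Basic.charDegree_of_eq (by rw [h5, Nat.cast_one])

/-- a group of order at most `2` is abelian -/
theorem comm_of_card {A : Type u} [Group A] [Finite A] (h : Nat.card A ≤ 2) (a b : A) : a * b = b * a := by
  classical
  by_cases ha : a = 1
  · simp [ha]
  by_cases hb : b = 1
  · simp [hb]
  by_cases hab : a = b
  · rw [hab]
  · exfalso
    have := Fintype.ofFinite A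
    have h1 : ({1, a, b} : Finset A).card = 3 := by
      rw [Finset.card_eq_three]
      exact ⟨1, a, b, fun h => ha h.symm, fun h => hb h.symm, hab, rfl⟩
    have h2 := Finset.card_le_univ ({1, a, b} : Finset A)
    rw [Nat.card_eq_fintype_card] at h
    omega

theorem twin {X : Type v} [Group X] [Finite X] (hp : commutator X = ⊤) (hz : Subgroup.center X = ⊥)
    (hi : (MulAut.conj : X →* MulAut X).range.index ≤ 2) :
    (∀ n ∈ charDegrees X, n ∈ charDegrees (MulAut X) ∨ 2 * n ∈ charDegrees (MulAut X)) ∧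
    (∀ e ∈ charDegrees (MulAut X), e ∈ charDegrees X ∨ ∃ n ∈ charDegrees X, n ≠ 1 ∧ e = 2 * n) := by
  classical
  let I : Subgroup (MulAut X) := (MulAut.conj : X →* MulAut X).range
  have hI : I.Normal := by
    show (MulAut.conj : X →* MulAut X).range.Normal
    infer_instance
  have hinj : Function.Injective (MulAut.conj : X →* MulAut X) := by
    rw [injective_iff_map_eq_one]
    intro a ha
    have h : a ∈ Subgroup.center X := by
      rw [Subgroup.mem_center_iff]
      intro b
      have h2 : a * b * a⁻¹ = b := by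
        rw [← MulAut.conj_apply, ha, MulAut.one_apply]
      rw [mul_inv_eq_iff_eq_mul] at h2
      exact h2.symm
    rw [hz] at h
    exact Subgroup.mem_bot.1 h
  let e : X ≃* I := MonoidHom.ofInjective hinj
  have hcd : charDegrees X = charDegrees I := charDegrees_congr e
  have hIi : I.index = 1 ∨ I.index = 2 := by
    have h1 : I.index ≤ 2 := hi
    have h2 : I.index ≠ 0 := Subgroup.index_ne_zero_of_finite
    omega
  have hdv : ∀ s, s ∣ I.index → s = 1 ∨ s = 2 := by
    intro s hs
    rcases hIi with h | h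
    · rw [h] at hs
      exact Or.inl (Nat.dvd_one.1 hs)
    · rw [h] at hs
      exact (Nat.dvd_prime Nat.prime_two).1 hs
  constructor
  · intro n hn
    rw [hcd] at hn
    obtain ⟨d, hd, h1, h2⟩ := clifford_up I hn
    obtain ⟨k, rfl⟩ := h1
    rw [Nat.mul_div_cancel_left _ (pos_of_mem hn)] at h2
    rcases hdv k h2 with rfl | rfl
    · rw [mul_one] at hd
      exact Or.inl hd
    · rw [mul_comm] at hd
      exact Or.inr hd
  · intro d hd
    by_cases h1 : d = 1
    · rw [h1]
      exact Or.inl one_mem_degrees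
    · have hIp : commutator I = ⊤ := by
        have hsurj : Function.Surjective (e : X →* I) := e.surjective
        have h2 : (⊤ : Subgroup X).map (e : X →* I) = ⊤ := Subgroup.map_top_of_surjective _ hsurj
        have h3 : (commutator X).map (e : X →* I) = commutator I := by
          rw [commutator_def, Subgroup.map_commutator, h2, commutator_def]
        rw [← h3, hp, h2]
      have hab : ∀ a b : MulAut X ⧸ I, a * b = b * a := by
        apply comm_of_card
        rw [← Subgroup.index_eq_card]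
        exact hi
      obtain ⟨c, hc, hc1, h4, h5⟩ := down I hIp hab hd h1
      obtain ⟨k, rfl⟩ := h4
      rw [Nat.mul_div_cancel_left _ (pos_of_mem hc)] at h5
      rw [hcd]
      rcases hdv k h5 with rfl | rfl
      · rw [mul_one]
        exact Or.inl hc
      · exact Or.inr ⟨c, hc, hc1, mul_comm _ _⟩

/-- **both degree sets at once** -/
theorem deg_two {X : Type v} [Group X] [Finite X] (hp : commutator X = ⊤) (hz : Subgroup.center X = ⊥)
    (hi : (MulAut.conj : X →* MulAut X).range.index ≤ 2) {c : ℕ} {D : Set ℕ} (hD : Cfsg.Agent.H704.S8.Deg c X D) :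
    (∀ n ∈ charDegrees X, n ∈ D ∨ 2 * n ∈ D) ∧
    (∀ e ∈ D, e ∈ charDegrees X ∨ ∃ n ∈ charDegrees X, n ≠ 1 ∧ e = 2 * n) := by
  rcases hD with rfl | ⟨-, rfl⟩
  · exact ⟨fun n hn => Or.inl hn, fun e he => Or.inl he⟩
  · exact twin hp hz hi

/-- the same for a simple group which is not commutative -/
theorem deg_two' {X : Type v} [Group X] [Finite X] (hs : IsSimpleGroup X) (hnc : ¬ IsMulCommutative X)
    (hi : (MulAut.conj : X →* MulAut X).range.index ≤ 2) {c : ℕ} {D : Set ℕ} (hD : Cfsg.Agent.H704.S8.Deg c X D) :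
    (∀ n ∈ charDegrees X, n ∈ D ∨ 2 * n ∈ D) ∧
    (∀ e ∈ D, e ∈ charDegrees X ∨ ∃ n ∈ charDegrees X, n ≠ 1 ∧ e = 2 * n) := by
  apply deg_two _ _ hi hD
  · rcases hs.eq_bot_or_eq_top_of_normal (commutator X) inferInstance with h | h
    · exfalso
      apply hnc
      refine ⟨⟨fun a b => ?_⟩⟩
      have h1 : ⁅a, b⁆ ∈ commutator X := Subgroup.commutator_mem_commutator (Subgroup.mem_top _) (Subgroup.mem_top _)
      rw [h, Subgroup.mem_bot, commutatorElement_eq_one_iff_mul_comm] at h1
      exact h1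
    · exact h
  · rcases hs.eq_bot_or_eq_top_of_normal (Subgroup.center X) inferInstance with h | h
    · exact h
    · exfalso
      apply hnc
      refine ⟨⟨fun a b => ?_⟩⟩
      have h1 : b ∈ Subgroup.center X := by rw [h]; trivial
      exact Subgroup.mem_center_iff.1 h1 a

end Cfsg.Agent.H242.S8
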