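import Cfsg.Agent.H417.DegMTwentyTwo
import Cfsg.Agent.H417.RecogMathieu
import Cfsg.Agent.S2062
import Cfsg.Agent.H934.OutB
import Cfsg.Agent.H242.S8.Twin

/-!
# S4908, M22: the degrees, the index of `Inn` (helper242, after helper417)
-/

set_option autoImplicit false

namespace Cfsg.Agent.H242.S8.MTwentyTwo

open Cfsg

universe u v

/-- the degrees of `M22` -/
def L22 : List ℕ := [1, 21, 45, 55, 99, 154, 210, 231, 280, 385]

theorem mem_cd {G : Type u} [Group G] [Finite G] (hG : IsM22 G) {d : ℕ} : d ∈ charDegrees G ↔ d ∈ L22 := by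
  obtain ⟨f, hf⟩ := H417.DegMTwentyTwo.exists_enum hG
  constructor
  · rintro ⟨χ, rfl⟩
    obtain ⟨i, rfl⟩ := f.surjective χ
    rw [hf i]
    revert i
    decide
  · intro h
    have h1 : ∀ d ∈ L22, ∃ i : Fin 12, M22.DegreesEnd.LB.getD i 0 = d := by decide
    obtain ⟨i, rfl⟩ := h1 d h
    exact ⟨f i, hf i⟩

theorem finite_of {X : Type v} [Group X] (h : Spor.IsoM22 X) : Finite X := by
  obtain ⟨e⟩ := h
  exact Finite.of_equiv _ e.symm.toEquiv

theorem not_comm {X : Type v} [Group X] (h : IsM22 X) : ¬ IsMulCommutative X := by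
  intro hc
  have := h.1
  have hf : Finite X := Nat.finite_of_card_ne_zero (by rw [h.2]; norm_num)
  have h1 : (21 : ℕ) ∈ charDegrees X := (mem_cd h).2 (by decide)
  have h2 := H424.DegTools.ito h1 (⊤ : Subgroup X) (fun a _ b _ => mul_comm' a b)
  rw [Subgroup.index_top] at h2
  omega

/-- `|Out M22| ≤ 2` -/
theorem index_le {X : Type v} [Group X] (h : Spor.IsoM22 X) : (MulAut.conj : X →* MulAut X).range.index ≤ 2 := by
  obtain ⟨e⟩ := h
  have h1 : Nat.card (Cfsg.Out X) = 2 := by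
    rw [H934.OutB.card_out_congr e]
    exact S2062.result
  have h2 : (MulAut.conj : X →* MulAut X).range.index = Nat.card (Cfsg.Out X) := rfl
  omega

/-- the degrees of the almost simple groups with socle `M22` -/
theorem deg {X : Type v} [Group X] (h : Spor.IsoM22 X) {c : ℕ} {D : Set ℕ} (hD : Cfsg.Agent.H704.S8.Deg c X D) :
    (∀ n ∈ L22, n ∈ D ∨ 2 * n ∈ D) ∧ (∀ e ∈ D, e ∈ L22 ∨ ∃ n ∈ L22, n ≠ 1 ∧ e = 2 * n) := by
  have hG := H417.RecogMathieu.isM22 h
  have := finite_of h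
  obtain ⟨h1, h2⟩ := deg_two' hG.1 (not_comm hG) (index_le h) hD
  refine ⟨fun n hn => h1 n ((mem_cd hG).2 hn), fun e he => ?_⟩
  rcases h2 e he with h3 | ⟨n, hn, hn1, rfl⟩
  · exact Or.inl ((mem_cd hG).1 h3)
  · exact Or.inr ⟨n, (mem_cd hG).1 hn, hn1, rfl⟩

end Cfsg.Agent.H242.S8.MTwentyTwo
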