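import Cfsg.Agent.H497.S8.SolvTwo
import Cfsg.Agent.H242.S8.MTwentyTwoDeg

/-!
# S4908, M22: SOLV (helper242, with helper497's engine)
-/

set_option autoImplicit false

namespace Cfsg.Agent.H242.S8.MTwentyTwo

open Cfsg

universe u v

/-- the superset of the degrees -/
def A22 : List ℕ := L22 ++ L22.tail.map (fun n => 2 * n)

/-- the known degrees: `n` or `2 n` -/
def K22 : List (List ℕ) := L22.tail.map (fun n => [n, 2 * n])

theorem chk22 : H497.S8.chk2 770 [2, 3, 5, 7, 11] A22 K22 = true := by decide +kernel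

/-- **SOLV for `M22` and `Aut M22`** -/
theorem solv {X : Type v} [Group X] (h : Spor.IsoM22 X) {c : ℕ} {D : Set ℕ} (hD : Cfsg.Agent.H704.S8.Deg c X D) :
    Cfsg.Agent.H704.S8.Solv.{u} D := by
  obtain ⟨h1, h2⟩ := deg h hD
  refine H497.S8.solv_of_chk2 770 [2, 3, 5, 7, 11] A22 K22 (by norm_num) ?_ ?_ chk22
  · intro d hd
    rw [A22, List.mem_append, List.mem_map]
    rcases h2 d hd with h3 | ⟨n, hn, hn1, rfl⟩
    · exact Or.inl h3
    · refine Or.inr ⟨n, ?_, rfl⟩
      revert hn1 hn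
      unfold L22
      simp only [List.mem_cons, List.not_mem_nil, List.tail_cons]
      tauto
  · intro l hl
    obtain ⟨n, hn, rfl⟩ := List.mem_map.1 hl
    rcases h1 n (List.mem_of_mem_tail hn) with h3 | h3
    · exact ⟨n, by simp, h3⟩
    · exact ⟨2 * n, by simp, h3⟩

end Cfsg.Agent.H242.S8.MTwentyTwo
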